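import Groth.Agent.Lib.DlzTwist27.Twist

/-!
# Morphisms between twists of a dualizing complex
-/

set_option autoImplicit false
universe u

open CategoryTheory CategoryTheory.Limits MonoidalCategory

attribute [local instance] HasDerivedCategory.standard

noncomputable section

namespace Groth.Agent.DlzTwist27

open Dlz27

variable {A : Type u} [CommRing A] (W : DRing.Cx A)

/-- The twist of a morphism of modules. -/
def twHom {P P' : ModuleCat.{u} A} (g : P ⟶ P') : twCx P W ⟶ twCx P' W :=
  (NatTrans.mapHomologicalComplex ((curriedTensor (ModuleCat.{u} A)).flip.map g) (ComplexShape.up ℤ)).app W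

theorem twHom_f {P P' : ModuleCat.{u} A} (g : P ⟶ P') (i : ℤ) : (twHom W g).f i = W.X i ◁ g := rfl

/-- The class of a twisted morphism. -/
def η {P P' : ModuleCat.{u} A} (g : P ⟶ P') : DerivedCategory.Q.obj (twCx P W) ⟶ DerivedCategory.Q.obj (twCx P' W) :=
  DerivedCategory.Q.map (twHom W g)

theorem η_id (P : ModuleCat.{u} A) : η W (𝟙 P) = 𝟙 _ := by
  rw [η, show twHom W (𝟙 P) = 𝟙 (twCx P W) from HomologicalComplex.hom_ext _ _ fun i => whiskerLeft_id _ _]
  exact CategoryTheory.Functor.map_id _ _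

theorem η_comp {P P' P'' : ModuleCat.{u} A} (g : P ⟶ P') (g' : P' ⟶ P'') : η W (g ≫ g') = η W g ≫ η W g' := by
  rw [η, show twHom W (g ≫ g') = twHom W g ≫ twHom W g' from HomologicalComplex.hom_ext _ _ fun i =>
    whiskerLeft_comp _ g g']
  exact Functor.map_comp _ _ _

theorem η_add {P P' : ModuleCat.{u} A} (g g' : P ⟶ P') : η W (g + g') = η W g + η W g' := by
  rw [η, show twHom W (g + g') = twHom W g + twHom W g' from HomologicalComplex.hom_ext _ _ fun i =>
    MonoidalPreadditive.whiskerLeft_add _ _]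
  exact Functor.map_add _

theorem η_zero (P P' : ModuleCat.{u} A) : η W (0 : P ⟶ P') = 0 := by
  rw [η, show twHom W (0 : P ⟶ P') = 0 from HomologicalComplex.hom_ext _ _ fun i =>
    MonoidalPreadditive.whiskerLeft_zero]
  exact Functor.map_zero _ _ _

theorem η_smul {P P' : ModuleCat.{u} A} (a : A) (g : P ⟶ P') : η W (a • g) = a • η W g := by
  rw [η, show twHom W (a • g) = a • twHom W g from HomologicalComplex.hom_ext _ _ fun i =>
    MonoidalLinear.whiskerLeft_smul _ a g]
  exact Functor.map_smul _ _ _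

theorem η_sum {P P' : ModuleCat.{u} A} {ι : Type} (s : Finset ι) (g : ι → (P ⟶ P')) :
    η W (∑ k ∈ s, g k) = ∑ k ∈ s, η W (g k) := by
  classical
  induction s using Finset.induction with
  | empty => rw [Finset.sum_empty, Finset.sum_empty, η_zero]
  | insert a t ha ih => rw [Finset.sum_insert ha, Finset.sum_insert ha, η_add, ih]

theorem exists_split (P : ModuleCat.{u} A) [_root_.Module.Invertible A P] :
    ∃ (n : ℕ) (ι : Fin n → (ModuleCat.of A A ⟶ P)) (π : Fin n → (P ⟶ ModuleCat.of A A)),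
      ∑ k, π k ≫ ι k = 𝟙 P := by
  obtain ⟨n, f, g, -, -, hfg⟩ := _root_.Module.Finite.exists_comp_eq_id_of_projective A P
  refine ⟨n, fun k => ModuleCat.ofHom (f ∘ₗ LinearMap.single A (fun _ => A) k),
    fun k => ModuleCat.ofHom (LinearMap.proj k ∘ₗ g), ModuleCat.hom_ext (LinearMap.ext fun x => ?_)⟩
  rw [ModuleCat.hom_sum, LinearMap.sum_apply]
  show ∑ k, f (Pi.single k (g x k)) = x
  rw [← map_sum, Finset.univ_sum_single]
  exact LinearMap.congr_fun hfg x

variable {W} {ω : Dual.D A} (hω : Dual.IsDualizing A ω) (M : Model ω)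

include hω in
theorem η_bijective_self : Function.Bijective fun a : A => η M.W (a • 𝟙 (ModuleCat.of A A)) := by
  have h := (isDualizing_twCx (ModuleCat.of A A) hω M).toEnd_bijective
  convert h using 2 with a
  rw [η_smul, η_id]

include hω in
theorem η_injective {P P' : ModuleCat.{u} A} [_root_.Module.Invertible A P] [_root_.Module.Invertible A P']
    {g g' : P ⟶ P'} (h : η M.W g = η M.W g') : g = g' := by
  refine sub_eq_zero.1 ?_
  have h0 : η M.W (g - g') = 0 := by
    have h1 := η_add M.W (g - g') g'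
    rw [sub_add_cancel, h] at h1
    exact right_eq_add.1 h1
  obtain ⟨n, ι, π, hs⟩ := exists_split P
  obtain ⟨m, ι', π', hs'⟩ := exists_split P'
  have hz : ∀ k l, ι k ≫ (g - g') ≫ π' l = 0 := fun k l => by
    obtain ⟨a, ha⟩ : ∃ a : A, ι k ≫ (g - g') ≫ π' l = a • 𝟙 (ModuleCat.of A A) :=
      ⟨(ι k ≫ (g - g') ≫ π' l).hom (1 : A), ModuleCat.hom_ext (LinearMap.ext_ring (by
        simp))⟩
    have : η M.W (a • 𝟙 (ModuleCat.of A A)) = η M.W ((0 : A) • 𝟙 (ModuleCat.of A A)) := by
      rw [← ha, η_comp, η_comp, h0, zero_smul, η_zero, zero_comp, comp_zero]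
    rw [ha, (η_bijective_self hω M).1 this, zero_smul]
  calc g - g' = (∑ k, π k ≫ ι k) ≫ (g - g') ≫ ∑ l, π' l ≫ ι' l := by rw [hs, hs', Category.id_comp, Category.comp_id]
    _ = 0 := by
      simp only [Preadditive.sum_comp, Preadditive.comp_sum, Category.assoc]
      refine Finset.sum_eq_zero fun l _ => Finset.sum_eq_zero fun k _ => ?_
      first
        | rw [reassoc_of% (hz k l), zero_comp, comp_zero]
        | rw [reassoc_of% (hz l k), zero_comp, comp_zero]

include hω in
theorem η_surjective {P P' : ModuleCat.{u} A} [_root_.Module.Invertible A P] [_root_.Module.Invertible A P']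
    (φ : DerivedCategory.Q.obj (twCx P M.W) ⟶ DerivedCategory.Q.obj (twCx P' M.W)) : ∃ g, η M.W g = φ := by
  obtain ⟨n, ι, π, hs⟩ := exists_split P
  obtain ⟨m, ι', π', hs'⟩ := exists_split P'
  choose a ha using fun k l => (η_bijective_self hω M).2 (η M.W (ι k) ≫ φ ≫ η M.W (π' l))
  refine ⟨∑ k, ∑ l, π k ≫ (a k l • 𝟙 _) ≫ ι' l, ?_⟩
  have h1 : φ = (∑ k, η M.W (π k) ≫ η M.W (ι k)) ≫ φ ≫ ∑ l, η M.W (π' l) ≫ η M.W (ι' l) := by
    simp only [← η_comp, ← η_sum, hs, hs', η_id, Category.id_comp, Category.comp_id]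
  conv_rhs => rw [h1]
  simp only [η_sum, η_comp, ha, Preadditive.sum_comp, Preadditive.comp_sum, Category.assoc]
  try rw [Finset.sum_comm]

include hω in
theorem nonempty_iso_of_twist_iso {P P' : ModuleCat.{u} A} [_root_.Module.Invertible A P] [_root_.Module.Invertible A P']
    (φ : DerivedCategory.Q.obj (twCx P M.W) ≅ DerivedCategory.Q.obj (twCx P' M.W)) : Nonempty (P ≅ P') := by
  obtain ⟨g, hg⟩ := η_surjective hω M φ.hom
  obtain ⟨g', hg'⟩ := η_surjective hω M φ.inv
  exact ⟨⟨g, g', η_injective hω M (by rw [η_comp, hg, hg', η_id, Iso.hom_inv_id]),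
    η_injective hω M (by rw [η_comp, hg, hg', η_id, Iso.inv_hom_id])⟩⟩

end Groth.Agent.DlzTwist27
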