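import Groth.Agent.Lib.DlzTwist27.Local
import Groth.Agent.Lib.DlzTwist27.Hom
import Mathlib.Topology.LocallyConstant.Basic

/-!
# Dualizing complexes differ by an invertible module and a shift
-/

set_option autoImplicit false
universe u

open CategoryTheory CategoryTheory.Limits MonoidalCategory

attribute [local instance] HasDerivedCategory.standard

noncomputable section

namespace Groth.Agent.DlzTwist27

open Dlz27

variable {A : Type u} [CommRing A]

/-- The shifted model. -/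
def shiftModel {ω : Dual.D A} (M : Model ω) (k : ℤ) : Model (ω⟦k⟧) where
  W := M.W⟦k⟧
  lo := M.lo - k
  hi := M.hi - k
  isGE := M.W.isStrictlyGE_shift M.lo k _ (by omega)
  isLE := M.W.isStrictlyLE_shift M.hi k _ (by omega)
  inj i := M.inj (i + k)
  kinj := by
    haveI := M.W.isStrictlyGE_shift M.lo k (M.lo - k) (by omega)
    exact @CochainComplex.isKInjective_of_injective _ _ _ (M.W⟦k⟧) (M.lo - k) _ (fun i => M.inj (i + k))
  e := (DerivedCategory.Q.commShiftIso k).app M.W ≪≫ (shiftFunctor (Dual.D A) k).mapIso M.e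

variable [IsNoetherianRing A] {ω ω' : Dual.D A} (hω : Dual.IsDualizing A ω) (hω' : Dual.IsDualizing A ω')

include hω hω' in
theorem exists_pair_at (p : PrimeSpectrum A) : ∃ (k : ℤ) (s : A) (f : ω⟦k⟧ ⟶ ω') (g : ω' ⟶ ω⟦k⟧),
    s ∉ p.asIdeal ∧ f ≫ g = s • 𝟙 _ ∧ g ≫ f = s • 𝟙 ω' := by
  let S := p.asIdeal.primeCompl
  let M := model hω
  let M' := model hω'
  haveI : IsNoetherianRing (Localization S) := IsLocalization.isNoetherianRing S _ inferInstance
  let a : (locD S).obj ω ≅ DerivedCategory.Q.obj (locCx S M.W) :=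
    (locD S).mapIso M.e.symm ≪≫ (locF S).mapDerivedCategoryFactors.app M.W
  let a' : (locD S).obj ω' ≅ DerivedCategory.Q.obj (locCx S M'.W) :=
    (locD S).mapIso M'.e.symm ≪≫ (locF S).mapDerivedCategoryFactors.app M'.W
  obtain ⟨k, ⟨e⟩⟩ := exists_shift_iso (isDualizing_locCx S hω M) (isDualizing_locCx S hω' M')
  obtain ⟨s, f, g, h1, h2⟩ := exists_inverse_pair S (isDualizing_shift hω k) hω'
    (((locD S).commShiftIso k).app ω ≪≫ (shiftFunctor _ k).mapIso a ≪≫ e.symm ≪≫ a'.symm)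
  exact ⟨k, s, f, g, s.2, h1, h2⟩

/-- The difference of degrees. -/
def degDiff (p : PrimeSpectrum A) : ℤ := deg hω (model hω) p - deg hω' (model hω') p

include hω hω' in
theorem degDiff_eq {k : ℤ} {s : A} (f : ω⟦k⟧ ⟶ ω') (g : ω' ⟶ ω⟦k⟧) (h1 : f ≫ g = s • 𝟙 _)
    (h2 : g ≫ f = s • 𝟙 ω') (q : PrimeSpectrum A) (hs : s ∉ q.asIdeal) : degDiff hω hω' q = k := by
  let M := model hω
  let M' := model hω'
  let N := Dual.inD A (A ⧸ q.asIdeal)
  have transfer : ∀ (X Y : Dual.D A) (u : X ⟶ Y) (v : Y ⟶ X), v ≫ u = s • 𝟙 Y → ∀ i : ℤ,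
      (∀ φ : N ⟶ X⟦i⟧, ∃ t : q.asIdeal.primeCompl, (t : A) • φ = 0) →
      ∀ φ : N ⟶ Y⟦i⟧, ∃ t : q.asIdeal.primeCompl, (t : A) • φ = 0 := fun X Y u v huv i h φ => by
    obtain ⟨t, ht⟩ := h (φ ≫ v⟦i⟧')
    refine ⟨t * ⟨s, hs⟩, ?_⟩
    have : s • φ = (φ ≫ v⟦i⟧') ≫ u⟦i⟧' := by
      rw [Category.assoc, ← Functor.map_comp, huv, Functor.map_smul, CategoryTheory.Functor.map_id, Linear.comp_smul,
        Category.comp_id]
    rw [Submonoid.coe_mul, mul_smul, this, ← Linear.smul_comp, ht, zero_comp]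
  have key : ∀ i, (k + i ≠ deg hω M q) ↔ (i ≠ deg hω' M' q) := fun i => by
    rw [← vanS_iff_ne_deg hω M q, ← vanS_iff_ne_deg hω' M' q, vanS_iff_hom, vanS_iff_hom]
    constructor
    · intro h
      refine transfer (ω⟦k⟧) ω' f g h2 i fun φ => ?_
      obtain ⟨t, ht⟩ := h (homShift k i (k + i) rfl φ)
      exact ⟨t, (homShift k i (k + i) rfl).injective (by rw [map_smul, ht, map_zero])⟩
    · intro h φ
      obtain ⟨φ', rfl⟩ := (homShift k i (k + i) rfl).surjective φ
      obtain ⟨t, ht⟩ := transfer ω' (ω⟦k⟧) g f h1 i h φ'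
      exact ⟨t, by rw [← map_smul, ht, map_zero]⟩
  show deg hω M q - deg hω' M' q = k
  by_contra hne
  exact (key (deg hω M q - k)).2 (fun h => hne (by omega)) (by omega)

include hω hω' in
theorem exists_pairs [PreconnectedSpace (PrimeSpectrum A)] [Nonempty (PrimeSpectrum A)] :
    ∃ k : ℤ, ∀ p : PrimeSpectrum A, ∃ (s : A) (f : ω⟦k⟧ ⟶ ω') (g : ω' ⟶ ω⟦k⟧),
      s ∉ p.asIdeal ∧ f ≫ g = s • 𝟙 _ ∧ g ≫ f = s • 𝟙 ω' := by
  have hlc : IsLocallyConstant (degDiff hω hω') := (IsLocallyConstant.iff_exists_open _).2 fun p => by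
    obtain ⟨k, s, f, g, hs, h1, h2⟩ := exists_pair_at hω hω' p
    exact ⟨PrimeSpectrum.basicOpen s, (PrimeSpectrum.basicOpen s).isOpen, hs, fun q hq =>
      (degDiff_eq hω hω' f g h1 h2 q hq).trans (degDiff_eq hω hω' f g h1 h2 p hs).symm⟩
  obtain ⟨p₀⟩ := ‹Nonempty (PrimeSpectrum A)›
  refine ⟨degDiff hω hω' p₀, fun p => ?_⟩
  obtain ⟨k, s, f, g, hs, h1, h2⟩ := exists_pair_at hω hω' p
  obtain rfl : k = degDiff hω hω' p₀ :=
    (degDiff_eq hω hω' f g h1 h2 p hs).symm.trans (hlc.apply_eq_of_preconnectedSpace p p₀)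
  exact ⟨s, f, g, hs, h1, h2⟩

omit hω hω' [IsNoetherianRing A]

section Morita

variable {X Y : Dual.D A} (hX : Function.Bijective fun a : A => a • 𝟙 X) (hY : Function.Bijective fun a : A => a • 𝟙 Y)
  {n : ℕ} (f : Fin n → (X ⟶ Y)) (g : Fin n → (Y ⟶ X)) (h1 : ∑ k, f k ≫ g k = 𝟙 X) (h2 : ∑ k, g k ≫ f k = 𝟙 Y)

/-- The scalar of an endomorphism. -/
def scal : (X ⟶ X) ≃ₗ[A] A := (LinearEquiv.ofBijective (LinearMap.toSpanSingleton A (X ⟶ X) (𝟙 X)) hX).symm

theorem scal_smul_id (e : X ⟶ X) : scal hX e • 𝟙 X = e :=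
  (LinearEquiv.ofBijective (LinearMap.toSpanSingleton A (X ⟶ X) (𝟙 X)) hX).apply_symm_apply e

/-- The coordinates. -/
def coord (k : Fin n) : (X ⟶ Y) →ₗ[A] A := (scal hX).toLinearMap ∘ₗ Linear.rightComp A X (g k)

theorem coord_smul_id (k : Fin n) (h : X ⟶ Y) : coord hX g k h • 𝟙 X = h ≫ g k := scal_smul_id hX _

include h2 in
theorem sum_coord (h : X ⟶ Y) : ∑ k, coord hX g k h • f k = h := by
  conv_rhs => rw [← Category.comp_id h, ← h2, Preadditive.comp_sum]
  refine Finset.sum_congr rfl fun k _ => ?_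
  rw [← Category.assoc, ← coord_smul_id hX, Linear.smul_comp, Category.id_comp]

variable (s : Fin n → A) (hs1 : ∀ k, f k ≫ g k = s k • 𝟙 X) (hs2 : ∀ k, g k ≫ f k = s k • 𝟙 Y)

include hX hY f g h1 s hs1 hs2 in
theorem scal_comm (a : X ⟶ Y) (b : Y ⟶ X) : scal hX (a ≫ b) = scal hY (b ≫ a) := by
  have hk : ∀ k, (s k * s k) * (scal hX (a ≫ b) - scal hY (b ≫ a)) = 0 := fun k => by
    let c := scal hY (g k ≫ a)
    let e := scal hY (b ≫ f k)
    have ha : s k • a = c • f k := by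
      calc s k • a = f k ≫ g k ≫ a := by rw [← Category.assoc, hs1, Linear.smul_comp, Category.id_comp]
        _ = c • f k := by rw [← scal_smul_id hY (g k ≫ a), Linear.comp_smul, Category.comp_id]
    have hb : s k • b = e • g k := by
      calc s k • b = (b ≫ f k) ≫ g k := by rw [Category.assoc, hs1, Linear.comp_smul, Category.comp_id]
        _ = e • g k := by rw [← scal_smul_id hY (b ≫ f k), Linear.smul_comp, Category.id_comp]
    have hX' : s k * s k * scal hX (a ≫ b) = c * e * s k := hX.1 (by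
      show (s k * s k * scal hX (a ≫ b)) • 𝟙 X = (c * e * s k) • 𝟙 X
      rw [mul_smul, scal_smul_id, mul_smul, ← Linear.comp_smul, ← Linear.smul_comp, ha, hb, Linear.smul_comp,
        Linear.comp_smul, hs1, smul_smul, smul_smul, mul_assoc])
    have hY' : s k * s k * scal hY (b ≫ a) = c * e * s k := hY.1 (by
      show (s k * s k * scal hY (b ≫ a)) • 𝟙 Y = (c * e * s k) • 𝟙 Y
      rw [mul_smul, scal_smul_id, mul_smul, ← Linear.comp_smul, ← Linear.smul_comp, ha, hb, Linear.smul_comp,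
        Linear.comp_smul, hs2, smul_smul, smul_smul, mul_comm c e, mul_assoc])
    rw [mul_sub, hX', hY', sub_self]
  have hone : ∑ k, s k = 1 := hX.1 (by
    show (∑ k, s k) • 𝟙 X = (1 : A) • 𝟙 X
    rw [Finset.sum_smul]
    exact ((Finset.sum_congr rfl fun k _ => (hs1 k).symm).trans h1).trans (one_smul A (𝟙 X)).symm)
  let d := scal hX (a ≫ b) - scal hY (b ≫ a)
  refine sub_eq_zero.1 ?_
  obtain ⟨c, hc⟩ : ∃ c : Fin n → A, ∑ k, c k * (s k * s k) = 1 := by
    have htop : Ideal.span ((fun x : A => x ^ 2) '' Set.range s) = ⊤ := Ideal.span_pow_eq_top _ (by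
      rw [Ideal.eq_top_iff_one, ← hone]
      exact Ideal.sum_mem _ fun k _ => Ideal.subset_span ⟨k, rfl⟩) 2
    rw [← Set.range_comp, Ideal.eq_top_iff_one, Ideal.mem_span_range_iff_exists_fun] at htop
    obtain ⟨c, hc⟩ := htop
    exact ⟨c, by simpa [pow_two] using hc⟩
  calc d = (∑ k, c k * (s k * s k)) * d := by rw [hc, one_mul]
    _ = 0 := by
      rw [Finset.sum_mul]
      exact Finset.sum_eq_zero fun k _ => by rw [mul_assoc, hk, mul_zero]

include hX hY f g h1 h2 s hs1 hs2 in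
theorem invertible_hom : _root_.Module.Invertible A (X ⟶ Y) := by
  let u : TensorProduct A (X ⟶ Y) (Y ⟶ X) →ₗ[A] A :=
    (scal hX).toLinearMap ∘ₗ TensorProduct.lift (Linear.comp X Y X : (X ⟶ Y) →ₗ[A] (Y ⟶ X) →ₗ[A] (X ⟶ X))
  have hu : ∀ a b, u (a ⊗ₜ[A] b) = scal hX (a ≫ b) := fun a b => rfl
  let z : TensorProduct A (X ⟶ Y) (Y ⟶ X) := ∑ k, f k ⊗ₜ[A] g k
  have key : ∀ x, x = u x • z := fun x => by
    induction x with
    | zero => rw [map_zero, zero_smul]
    | tmul a b =>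
      conv_lhs => rw [← sum_coord hX f g h2 a, TensorProduct.sum_tmul]
      rw [Finset.smul_sum]
      refine Finset.sum_congr rfl fun k _ => ?_
      rw [TensorProduct.smul_tmul, ← TensorProduct.tmul_smul]
      refine congrArg (f k ⊗ₜ[A] ·) ?_
      calc coord hX g k a • b = (b ≫ a) ≫ g k := by
            rw [Category.assoc, ← coord_smul_id hX g k a, Linear.comp_smul, Category.comp_id]
        _ = u (a ⊗ₜ[A] b) • g k := by
            rw [hu, scal_comm hX hY f g h1 s hs1 hs2, ← scal_smul_id hY (b ≫ a), Linear.smul_comp, Category.id_comp,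
              scal_smul_id]
    | add a b ha hb => rw [map_add, add_smul, ← ha, ← hb]
  refine _root_.Module.Invertible.left (N := (Y ⟶ X)) (LinearEquiv.ofBijective u
    ⟨fun x y hxy => by rw [key x, key y, hxy], fun a => ⟨a • z, ?_⟩⟩)
  refine hX.1 ?_
  show u (a • z) • 𝟙 X = a • 𝟙 X
  rw [map_smul, map_sum, smul_assoc, Finset.sum_smul]
  refine congrArg (a • ·) ?_
  exact (Finset.sum_congr rfl fun k _ => scal_smul_id hX (f k ≫ g k)).trans h1

end Morita

section Compare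

variable (M : Model ω) {n : ℕ} (f : Fin n → (ω ⟶ ω')) (g : Fin n → (ω' ⟶ ω))
  (h2 : ∑ k, g k ≫ f k = 𝟙 ω') (hX : Function.Bijective fun a : A => a • 𝟙 ω)

include h2 hX in
theorem exists_small_hom : ∃ P : ModuleCat.{u} A, Nonempty (P ≃ₗ[A] (ω ⟶ ω')) := by
  let ρ : (ω ⟶ ω') →ₗ[A] (Fin n → A) := LinearMap.pi (coord hX g)
  have hρ : Function.Injective ρ := fun a b h => by
    rw [← sum_coord hX f g h2 a, ← sum_coord hX f g h2 b]
    exact Finset.sum_congr rfl fun k _ => congrArg (· • f k) (congrFun h k)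
  exact ⟨ModuleCat.of A (LinearMap.range ρ), ⟨(LinearEquiv.ofInjective ρ hρ).symm⟩⟩

include g h2 hX M f in
theorem nonempty_iso_twist (P : ModuleCat.{u} A) (e : P ≃ₗ[A] (ω ⟶ ω')) :
    Nonempty (ω' ≅ DerivedCategory.Q.obj (twCx P M.W)) := by
  let c : DerivedCategory.Q.obj (twCx (ModuleCat.of A A) M.W) ≅ ω :=
    DerivedCategory.Q.mapIso (DBaseChange.tmSelfIso M.W) ≪≫ M.e
  let ι : Fin n → (ModuleCat.of A A ⟶ P) := fun k => ModuleCat.ofHom (LinearMap.toSpanSingleton A P (e.symm (f k)))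
  let π : Fin n → (P ⟶ ModuleCat.of A A) := fun k => ModuleCat.ofHom (coord hX g k ∘ₗ e.toLinearMap)
  have hιπ : ∀ k l, ι k ≫ π l = coord hX g l (f k) • 𝟙 (ModuleCat.of A A) := fun k l =>
    ModuleCat.hom_ext (LinearMap.ext_ring (by simp [ι, π]))
  refine ⟨⟨∑ k, g k ≫ c.inv ≫ η M.W (ι k), ∑ l, η M.W (π l) ≫ c.hom ≫ f l, ?_, ?_⟩⟩
  · rw [Preadditive.sum_comp]
    refine (Finset.sum_congr rfl fun k _ => ?_).trans h2
    rw [Preadditive.comp_sum]
    have : ∀ l, (g k ≫ c.inv ≫ η M.W (ι k)) ≫ η M.W (π l) ≫ c.hom ≫ f l = coord hX g l (f k) • (g k ≫ f l) :=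
      fun l => by
        simp only [Category.assoc]
        rw [← reassoc_of% (η_comp M.W (ι k) (π l)), hιπ, η_smul, η_id]
        simp
    simp only [this, ← Linear.comp_smul, ← Preadditive.comp_sum]
    rw [sum_coord hX f g h2]
  · have hmid : ∀ k l, (η M.W (π l) ≫ c.hom ≫ f l) ≫ g k ≫ c.inv ≫ η M.W (ι k) =
        η M.W (coord hX g k (f l) • (π l ≫ ι k)) := fun k l => by
      simp only [Category.assoc]
      rw [← Category.assoc (f l), ← coord_smul_id hX g k (f l), η_smul, η_comp]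
      simp
    simp only [Preadditive.sum_comp, Preadditive.comp_sum, hmid, ← η_sum]
    refine (congrArg (η M.W) ?_).trans (η_id M.W P)
    refine ModuleCat.hom_ext (LinearMap.ext fun h => e.injective ?_)
    simp only [ModuleCat.hom_sum, LinearMap.sum_apply, map_sum, ModuleCat.hom_smul, LinearMap.smul_apply]
    simp only [π, ι, ModuleCat.hom_comp, ModuleCat.hom_ofHom, ModuleCat.hom_id, LinearMap.comp_apply, LinearMap.id_apply,
      LinearMap.toSpanSingleton_apply, map_smul, LinearEquiv.apply_symm_apply, smul_smul, LinearEquiv.coe_coe]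
    try rw [Finset.sum_comm]
    conv_rhs => rw [← sum_coord hX f g h2 (e h)]
    refine Finset.sum_congr rfl fun k _ => ?_
    simp only [mul_comm _ (coord hX g k (e h)), ← smul_smul, ← Finset.smul_sum]
    rw [sum_coord hX f g h2]

end Compare

end Groth.Agent.DlzTwist27
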