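import Groth.Agent.Lib.DlzTwist27.Hom
import Groth.Agent.Lib.Dlz27.Shift
import Groth.Agent.Lib.DMod.Amplitude

/-!
# Uniqueness of twists
-/

set_option autoImplicit false
universe u

open CategoryTheory CategoryTheory.Limits MonoidalCategory

attribute [local instance] HasDerivedCategory.standard

noncomputable section

namespace Groth.Agent.DlzTwist27

open Dlz27

variable {A : Type u} [CommRing A]

theorem subsingleton_homology_twCx_iff (P : ModuleCat.{u} A) [_root_.Module.Invertible A P] (W : DRing.Cx A) (i : ℤ) :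
    Subsingleton (Dual.HD A (DerivedCategory.Q.obj (twCx P W)) i) ↔ Subsingleton (Dual.HD A (DerivedCategory.Q.obj W) i) := by
  have h1 : ∀ V : DRing.Cx A, Subsingleton (Dual.HD A (DerivedCategory.Q.obj V) i) ↔ IsZero (V.homology i) := fun V =>
    (((DerivedCategory.homologyFunctorFactors (ModuleCat.{u} A) i).app V).toLinearEquiv.toEquiv.subsingleton_congr).trans
      (ModuleCat.isZero_iff_subsingleton).symm
  rw [h1, h1]
  refine ((W.sc i).mapHomologyIso (tw P) : (twCx P W).homology i ≅ (tw P).obj (W.homology i)).isZero_iff.trans ?_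
  exact ⟨fun h => ((twEquiv P).unitIso.app _).isZero_iff.2 (Functor.map_isZero (twEquiv P).inverse h),
    fun h => Functor.map_isZero (tw P) h⟩

variable {ω : Dual.D A} [IsNoetherianRing A] [Nontrivial A]

theorem exists_nonzero_homology (hω : Dual.IsDualizing A ω) (M : Model ω) :
    ∃ i, ¬ Subsingleton (Dual.HD A (DerivedCategory.Q.obj M.W) i) := by
  by_contra h
  push Not at h
  haveI : DerivedCategory.IsLE (DerivedCategory.Q.obj M.W) (M.lo - 1) := (DMod.isLE_iff _ _).2 fun i _ => h i
  haveI : DerivedCategory.IsGE (DerivedCategory.Q.obj M.W) M.lo := (DMod.isGE_iff _ _).2 fun i _ => h i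
  have hz : IsZero (DerivedCategory.Q.obj M.W) :=
    DerivedCategory.TStructure.t.isZero (DerivedCategory.Q.obj M.W) (M.lo - 1) M.lo (by omega)
  have hz' : IsZero ω := hz.of_iso M.e.symm
  exact one_ne_zero (hω.toEnd_bijective.1 (hz'.eq_of_src ((1 : A) • 𝟙 ω) ((0 : A) • 𝟙 ω)))

theorem eq_of_twist_iso (hω : Dual.IsDualizing A ω) (M : Model ω) {P P' : ModuleCat.{u} A}
    [_root_.Module.Invertible A P] [_root_.Module.Invertible A P'] {n n' : ℤ}
    (e : (DerivedCategory.Q.obj (twCx P M.W))⟦n⟧ ≅ (DerivedCategory.Q.obj (twCx P' M.W))⟦n'⟧) : n = n' := by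
  classical
  have hshift : ∀ (K : Dual.D A) (k i : ℤ), Subsingleton (Dual.HD A (K⟦k⟧) i) ↔ Subsingleton (Dual.HD A K (k + i)) :=
    fun K k i => (((DerivedCategory.homologyFunctor (ModuleCat.{u} A) 0).shiftIso k i (k + i) rfl).app
      K).toLinearEquiv.toEquiv.subsingleton_congr
  have key : ∀ i, Subsingleton (Dual.HD A (DerivedCategory.Q.obj M.W) (n + i)) ↔
      Subsingleton (Dual.HD A (DerivedCategory.Q.obj M.W) (n' + i)) := fun i => by
    rw [← subsingleton_homology_twCx_iff P M.W (n + i), ← subsingleton_homology_twCx_iff P' M.W (n' + i), ← hshift, ← hshift]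
    exact ((DerivedCategory.homologyFunctor (ModuleCat.{u} A) i).mapIso e).toLinearEquiv.toEquiv.subsingleton_congr
  obtain ⟨i₀, hi₀⟩ := exists_nonzero_homology hω M
  have hlo : ∀ i, ¬ Subsingleton (Dual.HD A (DerivedCategory.Q.obj M.W) i) → M.lo ≤ i := fun i hi => by
    by_contra hlt
    exact hi ((DMod.isGE_iff _ M.lo).1 inferInstance i (not_le.1 hlt))
  obtain ⟨m, hm, hmin⟩ := Int.exists_least_of_bdd ⟨M.lo, hlo⟩ ⟨i₀, hi₀⟩
  have h1 : m ≤ n' + (m - n) := hmin _ fun h => hm (by
    have := (key (m - n)).2 h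
    rwa [show n + (m - n) = m by omega] at this)
  have h2 : m ≤ n + (m - n') := hmin _ fun h => hm (by
    have := (key (m - n')).1 h
    rwa [show n' + (m - n') = m by omega] at this)
  omega

end Groth.Agent.DlzTwist27
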