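import Groth.Agent.Lib.Dlz27.Unique
import Groth.Agent.Lib.Dlz27.CxLoc

/-!
# Morphisms between dualizing complexes near a prime
-/

set_option autoImplicit false
universe u

open CategoryTheory CategoryTheory.Limits CochainComplex.HomComplex

attribute [local instance] HasDerivedCategory.standard

noncomputable section

namespace Groth.Agent.DlzTwist27

open Dlz27

variable {A : Type u} [CommRing A] [IsNoetherianRing A] (S : Submonoid A)

theorem locD_smul_id (X : Dual.D A) (c : A) :
    (locD S).map (c • 𝟙 X) = algebraMap A (Localization S) c • 𝟙 ((locD S).obj X) := by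
  haveI : (DerivedCategory.Q : DRing.Cx A ⥤ Dual.D A).EssSurj :=
    Localization.essSurj _ (HomologicalComplex.quasiIso (ModuleCat.{u} A) (ComplexShape.up ℤ))
  let K := (DerivedCategory.Q : DRing.Cx A ⥤ Dual.D A).objPreimage X
  let e : DerivedCategory.Q.obj K ≅ X := (DerivedCategory.Q : DRing.Cx A ⥤ Dual.D A).objObjPreimageIso X
  let L := (locF S).mapHomologicalComplex (ComplexShape.up ℤ)
  have hsm : L.map (c • 𝟙 K) = algebraMap A (Localization S) c • 𝟙 (L.obj K) := HomologicalComplex.hom_ext _ _ fun i => by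
    show (locF S).map (c • 𝟙 (K.X i)) = algebraMap A (Localization S) c • 𝟙 ((locF S).obj (K.X i))
    rw [smul_locF_map, CategoryTheory.Functor.map_id]
  have h1 : (locD S).map (DerivedCategory.Q.map (c • 𝟙 K)) =
      algebraMap A (Localization S) c • 𝟙 ((locD S).obj (DerivedCategory.Q.obj K)) := by
    rw [← cancel_mono ((locF S).mapDerivedCategoryFactors.hom.app K)]
    refine ((locF S).mapDerivedCategoryFactors.hom.naturality (c • 𝟙 K)).trans ?_
    rw [Functor.comp_map, hsm, Functor.map_smul, CategoryTheory.Functor.map_id, Linear.comp_smul, Linear.smul_comp]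
    exact congrArg (algebraMap A (Localization S) c • ·) ((Category.comp_id _).trans (Category.id_comp _).symm)
  have h2 : c • 𝟙 X = e.inv ≫ DerivedCategory.Q.map (c • 𝟙 K) ≫ e.hom := by
    rw [Functor.map_smul, CategoryTheory.Functor.map_id, Linear.smul_comp, Category.id_comp, Linear.comp_smul,
      e.inv_hom_id]
  rw [h2, Functor.map_comp, Functor.map_comp, h1, Linear.smul_comp, Category.id_comp, Linear.comp_smul, ← Functor.map_comp,
    e.inv_hom_id, CategoryTheory.Functor.map_id]

theorem locD_smul {X Y : Dual.D A} (f : X ⟶ Y) (c : A) :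
    (locD S).map (c • f) = algebraMap A (Localization S) c • (locD S).map f := by
  have h : c • f = (c • 𝟙 X) ≫ f := by rw [Linear.smul_comp, Category.id_comp]
  rw [h, Functor.map_comp, locD_smul_id, Linear.smul_comp, Category.id_comp]

variable {P W : DRing.Cx A} [W.IsKInjective] (lo hi : ℤ) [W.IsStrictlyGE lo] [W.IsStrictlyLE hi]
  (hW : ∀ i, Injective (W.X i)) (hP : ∀ i, Module.Finite A (P.X i) ∧ Module.Free A (P.X i))

include lo hi hW hP in
theorem loc_surjective_res (φ : (locD S).obj (DerivedCategory.Q.obj P) ⟶ (locD S).obj (DerivedCategory.Q.obj W)) :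
    ∃ (t : S) (f : DerivedCategory.Q.obj P ⟶ DerivedCategory.Q.obj W),
      (locD S).map f = algebraMap A (Localization S) t • φ := by
  haveI : (locCx S W).IsKInjective :=
    @CochainComplex.isKInjective_of_injective _ _ _ (locCx S W) lo _ (fun i => injective_locF S (hW i))
  let fac := (locF S).mapDerivedCategoryFactors
  obtain ⟨g, hg⟩ := KInjLib.exists_map_eq (K := locCx S P) (I := locCx S W) (fac.inv.app P ≫ φ ≫ fac.hom.app W)
  obtain ⟨t, c, hc0, hc⟩ := exists_lift_cocycle S lo hi hP (Cochain.ofHom g) (δ_ofHom g)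
  let z : Cocycle P W 0 := Cocycle.mk c 1 rfl hc0
  refine ⟨t, DerivedCategory.Q.map (Cocycle.homOf z), ?_⟩
  have hL : ((locF S).mapHomologicalComplex (ComplexShape.up ℤ)).map (Cocycle.homOf z) =
      algebraMap A (Localization S) t • g := by
    refine HomologicalComplex.hom_ext _ _ fun i => ?_
    show (locF S).map ((Cocycle.homOf z).f i) = algebraMap A (Localization S) t • g.f i
    rw [show (Cocycle.homOf z).f i = c.v i i (add_zero i) from rfl]
    exact (congrArg (fun w : Cochain (locCx S P) (locCx S W) 0 => w.v i i (add_zero i)) hc).symm.trans (by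
      rw [Cochain.smul_v, Cochain.ofHom_v])
  rw [← cancel_mono (fac.hom.app W)]
  refine (fac.hom.naturality (Cocycle.homOf z)).trans ?_
  rw [Functor.comp_map, hL, Functor.map_smul, hg, Linear.comp_smul, Linear.smul_comp]
  exact congrArg (algebraMap A (Localization S) t • ·) (fac.hom_inv_id_app_assoc P _)

include lo hi hW hP in
theorem loc_kernel_res (f : DerivedCategory.Q.obj P ⟶ DerivedCategory.Q.obj W) (h : (locD S).map f = 0) :
    ∃ t : S, (t : A) • f = 0 := by
  haveI : (locCx S W).IsKInjective :=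
    @CochainComplex.isKInjective_of_injective _ _ _ (locCx S W) lo _ (fun i => injective_locF S (hW i))
  let fac := (locF S).mapDerivedCategoryFactors
  obtain ⟨g, rfl⟩ := KInjLib.exists_map_eq (K := P) (I := W) f
  let Lg := ((locF S).mapHomologicalComplex (ComplexShape.up ℤ)).map g
  have h0 : DerivedCategory.Q.map Lg = DerivedCategory.Q.map 0 := by
    rw [Functor.map_zero, ← cancel_epi (fac.hom.app P), comp_zero]
    refine (fac.hom.naturality g).symm.trans ?_
    show (locD S).map (DerivedCategory.Q.map g) ≫ fac.hom.app W = 0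
    rw [h, zero_comp]
  obtain ⟨H⟩ := (KInjLib.map_eq_iff _ _).1 h0
  obtain ⟨w, hw⟩ := Cochain.equivHomotopy _ _ H
  rw [Cochain.ofHom_zero, add_zero] at hw
  obtain ⟨s, c, hc⟩ := exists_lift_cochain S lo hi hP w
  obtain ⟨r, hr⟩ := exists_kill_cochain S lo hi hP ((s : A) • Cochain.ofHom g - δ (-1) 0 c) (by
    rw [Cochain.map_sub, map_smul_cochain, Cochain.map_ofHom, ← δ_map, ← hc, δ_smul, ← hw]
    exact sub_self _)
  refine ⟨r * s, ?_⟩
  rw [← Functor.map_smul, ← Functor.map_zero (DerivedCategory.Q : DRing.Cx A ⥤ Dual.D A) P W, KInjLib.map_eq_iff]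
  refine ⟨(Cochain.equivHomotopy _ _).symm ⟨(r : A) • c, ?_⟩⟩
  rw [Cochain.ofHom_zero, add_zero, δ_smul, show Cochain.ofHom (((r * s : S) : A) • g) = ((r * s : S) : A) • Cochain.ofHom g by
    ext p; simp, Submonoid.coe_mul, mul_smul]
  exact sub_eq_zero.1 ((smul_sub _ _ _).symm.trans hr)

variable {ω ω' : Dual.D A} (hω : Dual.IsDualizing A ω) (hω' : Dual.IsDualizing A ω')

include hω in
omit lo hi hW hP [W.IsKInjective] [W.IsStrictlyGE lo] [W.IsStrictlyLE hi] in
theorem exists_res (M : Model ω) : ∃ (P : DRing.Cx A), (∀ i, Module.Finite A (P.X i) ∧ Module.Free A (P.X i)) ∧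
    Nonempty (DerivedCategory.Q.obj P ≅ ω) := by
  haveI : (DerivedCategory.Q.obj M.W).IsLE M.hi := inferInstance
  obtain ⟨P, -, hP, ⟨eP⟩⟩ := exists_res_finiteFree (DerivedCategory.Q.obj M.W) M.hi fun i => by
    have := hω.finite_cohomology i
    exact Module.Finite.equiv ((DerivedCategory.homologyFunctor (ModuleCat.{u} A) i).mapIso M.e).toLinearEquiv.symm
  exact ⟨P, hP, ⟨eP ≪≫ M.e⟩⟩

include hω hω' in
omit lo hi hW hP [W.IsKInjective] [W.IsStrictlyGE lo] [W.IsStrictlyLE hi] in
theorem loc_surjective (φ : (locD S).obj ω ⟶ (locD S).obj ω') :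
    ∃ (t : S) (f : ω ⟶ ω'), (locD S).map f = algebraMap A (Localization S) t • φ := by
  let M' := model hω'
  obtain ⟨P, hP, ⟨a⟩⟩ := exists_res hω (model hω)
  obtain ⟨t, f, hf⟩ := loc_surjective_res S M'.lo M'.hi M'.inj hP ((locD S).map a.hom ≫ φ ≫ (locD S).map M'.e.inv)
  refine ⟨t, a.inv ≫ f ≫ M'.e.hom, ?_⟩
  rw [Functor.map_comp, Functor.map_comp, hf, Linear.smul_comp, Linear.comp_smul]
  refine congrArg (algebraMap A (Localization S) t • ·) ?_
  simp only [Category.assoc, ← Functor.map_comp, Iso.inv_hom_id, CategoryTheory.Functor.map_id, Category.comp_id]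
  rw [← Category.assoc, ← Functor.map_comp, a.inv_hom_id, CategoryTheory.Functor.map_id, Category.id_comp]

include hω hω' in
omit lo hi hW hP [W.IsKInjective] [W.IsStrictlyGE lo] [W.IsStrictlyLE hi] in
theorem loc_kernel (f : ω ⟶ ω') (h : (locD S).map f = 0) : ∃ t : S, (t : A) • f = 0 := by
  let M' := model hω'
  obtain ⟨P, hP, ⟨a⟩⟩ := exists_res hω (model hω)
  obtain ⟨t, ht⟩ := loc_kernel_res S M'.lo M'.hi M'.inj hP (a.hom ≫ f ≫ M'.e.inv) (by
    rw [Functor.map_comp, Functor.map_comp, h, zero_comp, comp_zero])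
  refine ⟨t, ?_⟩
  rw [← cancel_epi a.hom, ← cancel_mono M'.e.inv, comp_zero, zero_comp, Category.assoc, Linear.smul_comp,
    Linear.comp_smul]
  exact ht

include hω hω' in
omit lo hi hW hP [W.IsKInjective] [W.IsStrictlyGE lo] [W.IsStrictlyLE hi] in
/-- An isomorphism after localization spreads out. -/
theorem exists_inverse_pair (e : (locD S).obj ω ≅ (locD S).obj ω') :
    ∃ (s : S) (f : ω ⟶ ω') (g : ω' ⟶ ω), f ≫ g = (s : A) • 𝟙 ω ∧ g ≫ f = (s : A) • 𝟙 ω' := by
  obtain ⟨t, f, hf⟩ := loc_surjective S hω hω' e.hom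
  obtain ⟨t', g, hg⟩ := loc_surjective S hω' hω e.inv
  obtain ⟨u, hu⟩ := loc_kernel S hω hω (f ≫ g - ((t : A) * t') • 𝟙 ω) (by
    rw [Functor.map_sub, Functor.map_comp, locD_smul_id, hf, hg, Linear.smul_comp, Linear.comp_smul, e.hom_inv_id,
      smul_smul, ← map_mul, sub_self])
  obtain ⟨u', hu'⟩ := loc_kernel S hω' hω' (g ≫ f - ((t : A) * t') • 𝟙 ω') (by
    rw [Functor.map_sub, Functor.map_comp, locD_smul_id, hf, hg, Linear.smul_comp, Linear.comp_smul, e.inv_hom_id,
      smul_smul, ← map_mul, mul_comm (t' : A), sub_self])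
  rw [smul_sub, sub_eq_zero, smul_smul] at hu hu'
  refine ⟨u * u' * (t * t'), ((u : A) * u') • f, g, ?_, ?_⟩
  · rw [Linear.smul_comp, mul_comm (u : A), mul_smul, hu, smul_smul]
    simp only [Submonoid.coe_mul]; congr 1; ring
  · rw [Linear.comp_smul, mul_smul, hu', smul_smul]
    simp only [Submonoid.coe_mul]; congr 1; ring

end Groth.Agent.DlzTwist27
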