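import Groth.Agent.Lib.Dlz27.Loc
import Groth.Agent.Lib.DBaseChange.TorAmp
import Groth.Agent.Lib.DBaseChange.Adj
import Mathlib.RingTheory.PicardGroup

/-!
# Twisting a complex of injectives by an invertible module
-/

set_option autoImplicit false
universe u

open CategoryTheory CategoryTheory.Limits MonoidalCategory CochainComplex.HomComplex

attribute [local instance] HasDerivedCategory.standard

noncomputable section

namespace Groth.Agent.DlzTwist27

open Dlz27

variable {A : Type u} [CommRing A]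

/-- Tensoring on the right with a fixed module. -/
abbrev tw (P : ModuleCat.{u} A) : ModuleCat.{u} A ⥤ ModuleCat.{u} A := tensorRight P

/-- The twist of two modules cancelling each other. -/
def twTwIso {P P' : ModuleCat.{u} A} (e : P ⊗ P' ≅ 𝟙_ (ModuleCat.{u} A)) : tw P ⋙ tw P' ≅ 𝟭 _ :=
  (tensorRightTensor P P').symm ≪≫ (curriedTensor (ModuleCat.{u} A)).flip.mapIso e ≪≫ rightUnitorNatIso _

variable (P : ModuleCat.{u} A)

/-- The dual module. -/
abbrev dualMod : ModuleCat.{u} A := ModuleCat.of A (_root_.Module.Dual A P)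

variable [_root_.Module.Invertible A P]

/-- The twist as an equivalence. -/
def twEquiv : ModuleCat.{u} A ≌ ModuleCat.{u} A :=
  let e : dualMod P ⊗ P ≅ 𝟙_ (ModuleCat.{u} A) := (_root_.Module.Invertible.linearEquiv A P).toModuleIso
  CategoryTheory.Equivalence.mk (tw P) (tw (dualMod P)) (twTwIso ((β_ P (dualMod P)) ≪≫ e)).symm (twTwIso e)

instance isEquivalence_tw : (tw P).IsEquivalence := (twEquiv P).isEquivalence_functor

instance additive_tw : (tw P).Additive := inferInstanceAs (tensorRight P).Additive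

instance linear_tw : (tw P).Linear A := inferInstanceAs ((tensorRight P).Linear A)

instance preservesHomology_tw : (tw P).PreservesHomology :=
  haveI : PreservesFiniteLimits (tw P) := ⟨fun J _ _ => inferInstance⟩
  haveI : PreservesFiniteColimits (tw P) := ⟨fun J _ _ => inferInstance⟩
  inferInstance

/-- The twisted complex. -/
abbrev twCx (W : DRing.Cx A) : DRing.Cx A := (DBaseChange.tm P).obj W

theorem injective_twCx (W : DRing.Cx A) (hW : ∀ i, Injective (W.X i)) (i : ℤ) : Injective ((twCx P W).X i) :=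
  haveI := hW i
  Injective.injective_of_adjoint (twEquiv P).symm.toAdjunction (W.X i)

instance isStrictlyGE_twCx (W : DRing.Cx A) (a : ℤ) [W.IsStrictlyGE a] : (twCx P W).IsStrictlyGE a :=
  (CochainComplex.isStrictlyGE_iff _ _).2 fun i hi => Functor.map_isZero (tw P) (W.isZero_of_isStrictlyGE a i hi)

instance isStrictlyLE_twCx (W : DRing.Cx A) (b : ℤ) [W.IsStrictlyLE b] : (twCx P W).IsStrictlyLE b :=
  (CochainComplex.isStrictlyLE_iff _ _).2 fun i hi => Functor.map_isZero (tw P) (W.isZero_of_isStrictlyLE b i hi)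

theorem finite_homology_twCx (W : DRing.Cx A) (i : ℤ) (h : _root_.Module.Finite A (W.homology i)) :
    _root_.Module.Finite A ((twCx P W).homology i) := by
  haveI h1 : _root_.Module.Finite A ((tw P).obj (W.homology i)) :=
    inferInstanceAs (_root_.Module.Finite A (TensorProduct A (W.homology i) P))
  have l : (tw P).obj (W.homology i) ≃ₗ[A] (twCx P W).homology i :=
    ((W.sc i).mapHomologyIso (tw P)).symm.toLinearEquiv
  exact _root_.Module.Finite.equiv l

variable {K L : DRing.Cx A} {n : ℤ}

theorem cochain_map_injective {z z' : Cochain K L n} (h : z.map (tw P) = z'.map (tw P)) : z = z' :=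
  Cochain.ext _ _ fun p q hpq => (tw P).map_injective (congrArg (fun w => w.v p q hpq) h)

theorem cochain_map_surjective (z : Cochain (twCx P K) (twCx P L) n) : ∃ z₀ : Cochain K L n, z₀.map (tw P) = z :=
  ⟨Cochain.mk fun p q hpq => (tw P).preimage (z.v p q hpq), Cochain.ext _ _ fun p q hpq => by
    rw [Cochain.map_v, Cochain.mk_v]; exact (tw P).map_preimage _⟩

theorem map_smul_tw (a : A) (z : Cochain K L n) : (a • z).map (tw P) = a • z.map (tw P) :=
  Cochain.ext _ _ fun p q hpq => by
    simp only [Cochain.map_v, Cochain.smul_v]; exact Functor.map_smul _ _ _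

theorem map_ofHom_id : (Cochain.ofHom (𝟙 K)).map (tw P) = Cochain.ofHom (𝟙 (twCx P K)) := by
  rw [Cochain.map_ofHom]
  exact congrArg Cochain.ofHom (CategoryTheory.Functor.map_id _ _)

variable {ω : Dual.D A}

theorem isDualizing_twCx (hω : Dual.IsDualizing A ω) (M : Model ω) :
    Dual.IsDualizing A (DerivedCategory.Q.obj (twCx P M.W)) := by
  haveI : IsNoetherianRing A := hω.isNoetherianRing
  let W' := twCx P M.W
  haveI : W'.IsKInjective :=
    @CochainComplex.isKInjective_of_injective _ _ _ W' M.lo _ (injective_twCx P M.W M.inj)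
  haveI : IsIso (DerivedCategory.Q.map (𝟙 M.W)) := by rw [CategoryTheory.Functor.map_id]; infer_instance
  have hsm : ∀ c : A, Cochain.ofHom (c • 𝟙 W') = c • (Cochain.ofHom (𝟙 M.W)).map (tw P) := fun c => by
    rw [map_ofHom_id]; ext p; simp; rfl
  refine ⟨inferInstance, ⟨M.lo, M.hi, fun N _ _ i hi => ?_⟩, fun i => ?_, ⟨fun b b' hbb => ?_, fun φ => ?_⟩,
    fun n hn => ⟨fun φ ψ => ?_⟩⟩
  · refine (subsingleton_hom_iff_van (W := W') (Iso.refl _) N i).2 fun f _ => ⟨0, ?_⟩
    have hz : IsZero (W'.X i) := by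
      rcases hi with hi | hi
      · exact W'.isZero_of_isStrictlyGE M.lo i hi
      · exact W'.isZero_of_isStrictlyLE M.hi i hi
    haveI := ModuleCat.subsingleton_of_isZero hz
    exact Subsingleton.elim _ _
  · have h1 : _root_.Module.Finite A (M.W.homology i) := by
      have := hω.finite_cohomology i
      exact _root_.Module.Finite.equiv ((DerivedCategory.homologyFunctorFactors (ModuleCat.{u} A) i).symm.app M.W ≪≫
        (DerivedCategory.homologyFunctor (ModuleCat.{u} A) i).mapIso M.e).toLinearEquiv.symm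
    have := finite_homology_twCx P M.W i h1
    have l : W'.homology i ≃ₗ[A] Dual.HD A (DerivedCategory.Q.obj W') i :=
      ((DerivedCategory.homologyFunctorFactors (ModuleCat.{u} A) i).app W').toLinearEquiv.symm
    exact _root_.Module.Finite.equiv l
  · have h0 : DerivedCategory.Q.map ((b - b') • 𝟙 W') = DerivedCategory.Q.map 0 := by
      rw [Functor.map_zero, Functor.map_smul, CategoryTheory.Functor.map_id, sub_smul, sub_eq_zero]
      exact hbb
    obtain ⟨H⟩ := (KInjLib.map_eq_iff _ _).1 h0
    obtain ⟨w, hw⟩ := Cochain.equivHomotopy _ _ H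
    obtain ⟨w₀, rfl⟩ := cochain_map_surjective P w
    rw [Cochain.ofHom_zero, add_zero, hsm, δ_map, ← map_smul_tw] at hw
    exact sub_eq_zero.1 (scalar_eq_zero hω (𝟙 M.W) M.e (cochain_map_injective P hw))
  · obtain ⟨g, hg⟩ := KInjLib.exists_map_eq φ
    obtain ⟨z₀, hz₀⟩ := cochain_map_surjective P (Cochain.ofHom g)
    have hδ : δ 0 1 z₀ = 0 := cochain_map_injective P (by
      rw [← δ_map, hz₀, δ_ofHom]
      exact (Cochain.map_zero _ _ _ (tw P)).symm)
    obtain ⟨a, w, hw⟩ := exists_scalar hω (𝟙 M.W) M.e z₀ hδ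
    refine ⟨a, ?_⟩
    show a • 𝟙 _ = φ
    rw [← hg, ← CategoryTheory.Functor.map_id, ← Functor.map_smul]
    refine ((KInjLib.map_eq_iff _ _).2 ⟨(Cochain.equivHomotopy _ _).symm ⟨w.map (tw P), ?_⟩⟩).symm
    rw [hsm, ← hz₀, hw, Cochain.map_add, map_smul_tw, δ_map, add_comm]
  · suffices H : ∀ φ : DerivedCategory.Q.obj W' ⟶ (DerivedCategory.Q.obj W')⟦n⟧, φ = 0 from (H φ).trans (H ψ).symm
    intro φ
    obtain ⟨z, rfl⟩ := hcl_surjective φ
    obtain ⟨z₀, hz₀⟩ := cochain_map_surjective P z.1
    have hδ : δ n (n + 1) z₀ = 0 := cochain_map_injective P (by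
      rw [← δ_map, hz₀, Cocycle.δ_eq_zero z (n + 1)]
      exact (Cochain.map_zero _ _ _ (tw P)).symm)
    obtain ⟨w, hw⟩ := coboundary_of_subsingleton M.e M.e (hω.ext_self_subsingleton n hn) z₀ hδ
    rw [hcl_eq_zero_iff]
    exact ⟨w.map (tw P), by rw [δ_map, hw, hz₀]⟩

omit [_root_.Module.Invertible A P] in
theorem quasiIso_tm_of_preservesHomology [(tw P).PreservesHomology] {K K' : DRing.Cx A} (f : K ⟶ K') [QuasiIso f] :
    QuasiIso ((DBaseChange.tm P).map f) :=
  inferInstanceAs (QuasiIso (((tensorRight P).mapHomologicalComplex (ComplexShape.up ℤ)).map f))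

/-- The derived twist is the termwise twist. -/
theorem nonempty_lTensor_iso [DRing.HasLTensor A P] (W : DRing.Cx A) :
    Nonempty ((DRing.LTensor A P).obj (DerivedCategory.Q.obj W) ≅ DerivedCategory.Q.obj (twCx P W)) := by
  have : QuasiIso ((KFlat.DT.aug A).app W) := KFlat.DT.qis_aug W
  obtain ⟨t⟩ := DBaseChange.nonempty_lTensor_iso P ((KFlat.DT.res A).obj W) (DBaseChange.adapted_res W)
  have := quasiIso_tm_of_preservesHomology P ((KFlat.DT.aug A).app W)
  exact ⟨(DRing.LTensor A P).mapIso (asIso (DerivedCategory.Q.map ((KFlat.DT.aug A).app W))).symm ≪≫ t ≪≫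
    asIso (DerivedCategory.Q.map ((DBaseChange.tm P).map ((KFlat.DT.aug A).app W)))⟩

end Groth.Agent.DlzTwist27
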